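import Mathlib

/-! Arithmetic for the real tori of groups of Ree type. -/

set_option autoImplicit false

namespace Cfsg.Agent.AGrp.RR

theorem vieta (e : ℤ) (he : 3 ≤ e) (n : ℕ) : ∀ y z : ℤ, 0 < y → 0 < z → y + z ≤ n →
    y ^ 2 + z ^ 2 + 3 ≠ e * y * z + 3 * y := by
  induction n with
  | zero => intro y z hy hz h; omega
  | succ n ih =>
    intro y z hy hz h h1
    rcases lt_trichotomy y z with h2 | rfl | h2
    · have h3 : z * (e * y - z) = y ^ 2 - 3 * y + 3 := by linarith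
      have h4 : 0 < e * y - z := (mul_pos_iff_of_pos_left hz).1 (by nlinarith [sq_nonneg (2 * y - 3)])
      have h5 : e * y - z < z := lt_of_mul_lt_mul_left (a := z) (by nlinarith) hz.le
      exact ih y (e * y - z) hy h4 (by omega) (by linarith)
    · nlinarith [mul_pos hy hy]
    have h3 : y * (e * z + 3 - y) = z ^ 2 + 3 := by linarith
    have h4 : 0 < e * z + 3 - y := (mul_pos_iff_of_pos_left hy).1 (by nlinarith)
    by_cases h5 : e * z + 3 - y < y
    · exact ih (e * z + 3 - y) z h4 hz (by omega) (by linarith)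
    · have h6 : z = 1 := by nlinarith
      subst h6
      have h7 : y = 2 := by nlinarith
      subst h7
      omega

theorem one_add_sum_le (D : Finset ℕ) (x : ℕ → ℕ) :
    2 + 2 * ∑ m ∈ D, x m + (∑ m ∈ D, x m) ^ 2 ≤ 2 * ∏ m ∈ D, (1 + x m) + ∑ m ∈ D, x m ^ 2 ∧
      1 + ∑ m ∈ D, x m ≤ ∏ m ∈ D, (1 + x m) := by
  induction D using Finset.induction_on with
  | empty => simp
  | insert a s ha ih =>
    simp only [Finset.sum_insert ha, Finset.prod_insert ha]
    constructor <;> nlinarith [ih.1, ih.2, Nat.mul_le_mul_left (x a) ih.2, Nat.zero_le (x a * ∑ m ∈ s, x m)]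

theorem num_aux {q N m c a b e : ℤ} (hq : 27 ≤ q) (h3 : 3 ∣ q) (h4 : 4 ∣ q + 1)
    (hN : N + q = q ^ 2 + 1) (hmc : N = m * c) (hm : m = 1 + a * e) (he : 6 ≤ e) (he2 : Even e)
    (hd : m ∣ (q + 1) * e - 3 * c) (hb : 0 ≤ b) (hab : q ≤ 3 * (a + b)) (hb' : 42 * b < q)
    (hc : 7 * (1 + 6 * b) ≤ c) : False := by
  obtain ⟨α, hα⟩ := hd
  have h5 : 13 * q < 42 * a := by omega
  have h6 : 6 * a < m := by nlinarith
  have h7 : c < q := by nlinarith
  have h8 : 0 < α := (mul_pos_iff_of_pos_left (by omega : 0 < m)).1 (by nlinarith)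
  have h9 : α < 4 := lt_of_mul_lt_mul_left (a := m) (by nlinarith) (by omega)
  obtain ⟨r, hr⟩ := h4
  obtain rfl : q = 4 * r - 1 := by omega
  have hN' : N = 4 * (4 * r ^ 2 - 3 * r) + 3 := by linarith
  interval_cases α
  · have : m = 4 * (r * e - c) + c := by linarith
    have h10 : N = 4 * ((r * e - c) * c) + c ^ 2 := by rw [hmc, this]; ring
    obtain ⟨d, rfl | rfl⟩ := Int.even_or_odd' c
    · have : (2 * d) ^ 2 = 4 * d ^ 2 := by ring
      omega
    · have : (2 * d + 1) ^ 2 = 4 * (d ^ 2 + d) + 1 := by ring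
      omega
  · have : c = 2 * (2 * r * e - m - c) := by linarith
    have h10 : N = 2 * (m * (2 * r * e - m - c)) := by rw [hmc]; linear_combination m * this
    omega
  · obtain ⟨f, rfl⟩ : 3 ∣ e := by
      obtain ⟨d, hd⟩ := h3
      exact ⟨m + c - d * e, by linear_combination hα - e * hd⟩
    have h10 : m + c = 4 * r * f := by linarith
    by_cases h11 : 3 ≤ f
    · refine vieta f h11 (4 * r + c).toNat (4 * r) c (by omega) (by omega) (by omega) ?_
      linear_combination hmc - hN + c * h10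
    · obtain rfl : f = 2 := by omega
      omega

theorem num {q N c : ℕ} {D : Finset ℕ} {a e : ℕ → ℕ} (hq : 27 ≤ q) (h3 : 3 ∣ q) (h4 : 4 ∣ q + 1)
    (hN : N + q = q ^ 2 + 1) (hc : 7 ≤ c) (hp : c * ∏ m ∈ D, m ∣ N)
    (hm : ∀ m ∈ D, m = 1 + a m * e m) (he : ∀ m ∈ D, 6 ≤ e m ∧ Even (e m))
    (hd : ∀ m ∈ D, ∀ d : ℕ, N = m * d → (m : ℤ) ∣ (q + 1) * e m - 3 * d)
    (hs : q ≤ 3 * ∑ m ∈ D, a m) : False := by
  obtain ⟨m, hmD, hmax⟩ := D.exists_max_image a (by
    rcases D.eq_empty_or_nonempty with rfl | h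
    · simp at hs; omega
    · exact h)
  have h1 : ∀ E ⊆ D, ∏ m ∈ E, (1 + 6 * a m) ≤ ∏ m ∈ E, m := fun E hE =>
    Finset.prod_le_prod' fun m hm' => by
      have := hm m (hE hm')
      nlinarith [(he m (hE hm')).1]
  obtain ⟨d, hd'⟩ := hp
  have h0 : 0 < d := Nat.pos_of_ne_zero (by rintro rfl; nlinarith)
  have h2 := (one_add_sum_le D fun m => 6 * a m).1
  have h5 := (one_add_sum_le (D.erase m) fun m => 6 * a m).2.trans (h1 _ (D.erase_subset m))
  have h6 : ∑ i ∈ D, (6 * a i) ^ 2 ≤ 36 * a m * ∑ i ∈ D, a i := by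
    rw [Finset.mul_sum]
    exact Finset.sum_le_sum fun i hi => by nlinarith [hmax i hi]
  have h7 := h1 D le_rfl
  rw [← Finset.mul_sum] at h2 h5
  have h8 := D.add_sum_erase a hmD
  have h9 := D.mul_prod_erase (fun m => m) hmD
  generalize ∑ i ∈ D.erase m, a i = b at *
  generalize ∏ i ∈ D.erase m, i = R at *
  generalize ∏ i ∈ D, (1 + 6 * a i) = R' at *
  generalize ∑ i ∈ D, (6 * a i) ^ 2 = Q at *
  rw [← h8] at h2 h6 hs
  rw [← h9] at hd' h7
  have h10 : 7 * (m * R) ≤ N := by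
    rw [hd']
    exact (Nat.mul_le_mul_right _ hc).trans (Nat.le_mul_of_pos_right _ h0)
  refine num_aux (q := q) (N := N) (m := m) (c := (c * R * d : ℕ)) (a := a m) (b := b) (e := e m)
    (by omega) (by omega) (by omega) (by exact_mod_cast hN) (by rw [hd']; push_cast; ring)
    (by exact_mod_cast hm m hmD) (by exact_mod_cast (he m hmD).1) (he m hmD).2.natCast
    (hd m hmD _ (by rw [hd']; ring)) (by omega) (by omega) ?_ ?_
  · have : 42 * b * q < q * q := by nlinarith
    exact_mod_cast lt_of_mul_lt_mul_right this q.zero_le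
  · exact_mod_cast (Nat.mul_le_mul hc h5).trans (Nat.le_mul_of_pos_right _ h0)

end Cfsg.Agent.AGrp.RR
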