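import Cfsg.Agent.AGrp.ReeTor
import Cfsg.Agent.AGrp.ReeNum
import Cfsg.Agent.Ch.BSWBase
import Cfsg.Agent.GT.FrobeniusFpf

/-! In a group of Ree type every prime divisor of the order is the order of a real element. -/

set_option autoImplicit false

namespace Cfsg.Agent.AGrp.RR

open Subgroup JTW Inv.Exc Chev.ReeUtil

variable {G : Type*} [Group G] [Finite G] {s : Setup G} {P : Subgroup G}

/-- A group of Ree type. -/
structure RT (s : Setup G) (P : Subgroup G) : Prop where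
  C : s.ReeC P
  Φ : s.Φ = ⊥
  p : s.p = 3
  q : 3 < s.q

/-- Real self-centralising subgroups of order prime to `|C(t)|`. -/
structure RM (s : Setup G) (M : Subgroup G) : Prop where
  ne : M ≠ ⊥
  sc : SC M
  cop : (Nat.card M).Coprime (6 * s.h * s.k)
  inv : ∃ a : G, orderOf a = 2 ∧ a ∈ normalizer (M : Set G)

namespace RT

variable (h : RT s P)
include h

theorem I_eq : s.I = s.q ^ 2 * (2 * s.k * s.q + 1) := by
  rw [h.C.card_I, sq s.q, ← Nat.mul_sub_one, s.rc_q h.p, Nat.add_sub_cancel]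
  ring

theorem card_G : Nat.card G = s.q ^ 3 * (8 * s.h * s.k) * (2 * s.k * s.q + 1) := by
  rw [s.card_G, h.I_eq, s.f_eq_one_iff.2 h.Φ]
  ring

theorem card_B : Nat.card (P ⊔ ⊥ ⊔ s.D : Subgroup G) = s.q ^ 3 * (2 * s.k) := by
  rw [h.C.card_B, h.C.card_P, s.f_eq_one_iff.2 h.Φ, card_bot, mul_one, mul_one]

theorem le_q : 27 ≤ s.q := by
  obtain ⟨n, ⟨m, rfl⟩, e⟩ := s.data.q_odd_pow
  have := h.q
  rw [e, h.p] at this ⊢
  rcases m with _ | m
  · omega
  · exact Nat.pow_le_pow_right (n := 3) three_pos (i := 3) (by omega)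

theorem three_dvd : 3 ∣ s.q := h.p ▸ s.data.p_dvd_q

theorem cop {n : ℕ} (hn : n.Coprime (6 * s.h * s.k)) : n.Coprime (s.q ^ 3 * (8 * s.h * s.k)) := by
  obtain ⟨m, -, e⟩ := s.rc_q_pow h.p
  refine (hn.pow_right (3 * m + 3)).coprime_dvd_right ?_
  rw [e, ← pow_mul, show 6 * s.h * s.k = 3 * (2 * s.h * s.k) by ring, mul_pow]
  refine Nat.mul_dvd_mul (pow_dvd_pow 3 (by omega)) (Dvd.dvd.trans ?_ (pow_dvd_pow _ le_add_self))
  exact ⟨s.h ^ 2 * s.k ^ 2, by ring⟩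

theorem into_P {c : G} (hc : orderOf c = 3) : ∃ g : G, g * c * g⁻¹ ∈ P := by
  refine exists_conj_mem_of_not_dvd_index Nat.prime_three hc fun e => ?_
  have h1 := P.card_mul_index
  rw [h.card_G, h.C.card_P, mul_assoc, mul_right_inj' (by have := h.q; positivity)] at h1
  have h2 := s.rc_not_three_h h.p
  have h3 := s.rc_not_three_k h.p
  have h4 := h.three_dvd.mul_left (2 * s.k)
  simp only [h1, Nat.prime_three.dvd_mul] at e
  omega

theorem into_T {c : G} (hr : (orderOf c).Prime) (hc : orderOf c ∣ s.k) :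
    ∃ g : G, g * c * g⁻¹ ∈ s.T := by
  refine exists_conj_mem_of_not_dvd_index hr rfl (hr.coprime_iff_not_dvd.1 (.coprime_dvd_left hc ?_))
  have h1 := s.T.card_mul_index
  rw [h.card_G, s.data.card_T, show s.q ^ 3 * (8 * s.h * s.k) * (2 * s.k * s.q + 1) =
    s.k * (s.q ^ 3 * 2 ^ 3 * s.h * (1 + s.k * (2 * s.q))) by ring,
    mul_right_inj' s.data.k_pos.ne'] at h1
  exact h1 ▸ ((((s.data.coprime_q_k.symm.pow_right 3).mul_right ((Nat.coprime_two_right.2
    s.data.odd_k).pow_right 3)).mul_right s.data.coprime_h_k.symm).mul_right (by simp))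

theorem into_H {c : G} (hr : (orderOf c).Prime) (hc : orderOf c ∣ s.h) :
    ∃ g : G, g * c * g⁻¹ ∈ s.H := by
  refine exists_conj_mem_of_not_dvd_index hr rfl (hr.coprime_iff_not_dvd.1 (.coprime_dvd_left hc ?_))
  have h1 := s.H.card_mul_index
  have h2 : 2 * s.k * s.q + 1 = 3 + s.h * (4 * (s.q - 2)) := by
    have := s.rc_q h.p
    have := s.rc_h h.p
    zify [show 2 ≤ s.q by have := h.q; omega] at *
    nlinarith
  rw [h.card_G, s.data.card_H, h2, show s.q ^ 3 * (8 * s.h * s.k) * (3 + s.h * (4 * (s.q - 2))) =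
    s.h * (s.q ^ 3 * 2 ^ 3 * s.k * (3 + s.h * (4 * (s.q - 2)))) by ring,
    mul_right_inj' s.data.h_pos.ne'] at h1
  exact h1 ▸ ((((s.data.coprime_q_h.symm.pow_right 3).mul_right ((Nat.coprime_two_right.2
    s.data.odd_h).pow_right 3)).mul_right s.data.coprime_h_k).mul_right (by
      simpa using (Nat.prime_three.coprime_iff_not_dvd.2 (s.rc_not_three_h h.p)).symm))

/-- Centralisers of `π`-elements are `π`-groups. -/
theorem pi_of_commute {y c : G} (hy : (orderOf y).Coprime (6 * s.h * s.k)) (h1 : y ≠ 1)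
    (hc : Commute y c) : (orderOf c).Coprime (6 * s.h * s.k) := by
  by_contra h2
  obtain ⟨r, hr, h3, h4⟩ := Nat.Prime.not_coprime_iff_dvd.1 h2
  obtain ⟨n, hn⟩ := exists_pow_orderOf_eq h3
  replace hc := hc.pow_right n
  generalize c ^ n = z at hn hc
  have h5 : ∀ g : G, g * z * g⁻¹ ≠ 1 := fun g e => hr.ne_one (by
    rw [← hn, conj_eq_one_iff.1 e, orderOf_one])
  have key : ∀ (g : G) (X : Subgroup G), g * y * g⁻¹ ∈ X →
      ¬ Nat.card X ∣ s.q ^ 3 * (8 * s.h * s.k) := fun g X hg e => h1 (orderOf_eq_one_iff.1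
    ((h.cop hy).eq_one_of_dvd (orderOf_conj g y ▸ (X.orderOf_dvd_natCard hg).trans e)))
  have key2 : ∀ g : G, ¬ Commute (g * y * g⁻¹) s.t := fun g e =>
    key g s.C (mem_centralizer_singleton_iff.2 e) ⟨s.q ^ 2, by
      rw [s.card_C, s.f_eq_one_iff.2 h.Φ]; ring⟩
  subst hn
  rw [show 6 = 2 * 3 from rfl] at h4
  simp only [hr.dvd_mul, Nat.prime_dvd_prime_iff_eq hr, Nat.prime_two, Nat.prime_three] at h4
  rcases h4 with ((e | e) | e) | e
  · obtain ⟨g, hg⟩ := isConj_iff.1 (s.one_class z e).symm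
    exact key2 g (hg ▸ hc.conj g)
  · obtain ⟨g, hg⟩ := h.into_P e
    exact key g _ (h.C.toReeB.cent_P_le hg (h5 g) (mem_centralizer_singleton_iff.2 (hc.conj g)))
      ⟨4 * s.h, by rw [h.card_B]; ring⟩
  · obtain ⟨g, hg⟩ := h.into_H hr e
    exact key g _ (s.cent_H_of_bot h.Φ hg (h5 g) (hc.conj g)) ⟨2 * s.k * s.q ^ 3, by
      rw [card_VH]; ring⟩
  · obtain ⟨g, hg⟩ := h.into_T hr e
    exact key2 g (s.cent_T h.p h.q hg (h5 g) (hc.conj g))

theorem inverts {M : Subgroup G} (hM : ∀ y ∈ M, (orderOf y).Coprime (6 * s.h * s.k)) {a : G}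
    (ha : orderOf a = 2) (hn : a ∈ normalizer (M : Set G)) :
    (∀ y ∈ M, a * y * a⁻¹ = y⁻¹) ∧ IsMulCommutative M :=
  GT.Frob.conj_eq_inv_of_fpf hn (Inv.mul_self_of_two ha) (eq_bot_iff.2 fun y hy => by
    by_contra h1
    have := h.pi_of_commute (hM y hy.1) h1 (mem_centralizer_singleton_iff.1 hy.2)
    rw [ha, Nat.coprime_two_left, show 6 * s.h * s.k = 2 * (3 * s.h * s.k) by ring] at this
    exact this.not_two_dvd_nat ⟨_, rfl⟩)

theorem rm {y a : G} (hy : (orderOf y).Coprime (6 * s.h * s.k)) (h1 : y ≠ 1) (ha : orderOf a = 2)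
    (hi : a * y * a⁻¹ = y⁻¹) : RM s (centralizer {y}) := by
  have h2 : ∀ {y : G}, a * y * a⁻¹ = y⁻¹ → a ∈ normalizer (centralizer {y} : Set G) :=
    fun {y} hi => mem_normalizer_of_conj_mem fun z hz => mem_centralizer_singleton_iff.2 (by
      simpa [hi] using ((show Commute z y from mem_centralizer_singleton_iff.1 hz).conj a).inv_right.eq)
  have h3 : ∀ {y : G}, (orderOf y).Coprime (6 * s.h * s.k) → y ≠ 1 →
      ∀ c ∈ centralizer {y}, (orderOf c).Coprime (6 * s.h * s.k) := fun hy h1 c hc =>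
    h.pi_of_commute hy h1 (mem_centralizer_singleton_iff.1 hc).symm
  have h4 : ∀ {y z : G}, (orderOf y).Coprime (6 * s.h * s.k) → y ≠ 1 → a * y * a⁻¹ = y⁻¹ →
      z ∈ centralizer {y} → centralizer {y} ≤ centralizer ({z} : Set G) :=
    fun hy h1 hi hz c hc => mem_centralizer_singleton_iff.2 (congrArg Subtype.val
      ((h.inverts (h3 hy h1) ha (h2 hi)).2.is_comm.comm ⟨c, hc⟩ ⟨_, hz⟩))
  refine ⟨fun e => h1 (mem_bot.1 (e ▸ mem_centralizer_singleton_iff.2 rfl)), fun z hz hz1 =>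
    le_antisymm (h4 (h3 hy h1 z hz) hz1 ((h.inverts (h3 hy h1) ha (h2 hi)).1 z hz)
      (mem_centralizer_singleton_iff.2 (mem_centralizer_singleton_iff.1 hz).symm))
      (h4 hy h1 hi hz), Nat.Coprime.symm (Nat.coprime_of_dvd fun r hr h5 h6 => ?_), a, ha, h2 hi⟩
  haveI := Fact.mk hr
  obtain ⟨c, rfl⟩ := exists_prime_orderOf_dvd_card' r h6
  exact hr.ne_one (Nat.Coprime.eq_one_of_dvd (orderOf_coe c ▸ h3 hy h1 c c.2) h5)

theorem seven_le {r : ℕ} (hr : r.Prime) (h1 : r ∣ 2 * s.k * s.q + 1) : 7 ≤ r := by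
  by_contra! h2
  have h3 := h.three_dvd.mul_left (2 * s.k)
  have h4 : 2 ∣ 2 * s.k * s.q := (dvd_mul_right 2 _).mul_right _
  interval_cases r
  any_goals first | omega | norm_num at hr
  rw [s.rc_q h.p, Nat.dvd_iff_mod_eq_zero] at h1
  obtain e | e | e | e | e : s.k % 5 = 0 ∨ s.k % 5 = 1 ∨ s.k % 5 = 2 ∨ s.k % 5 = 3 ∨ s.k % 5 = 4 := by
    omega
  all_goals simp [Nat.add_mod, Nat.mul_mod, e] at h1

theorem j_notMem : s.j ∉ s.D := fun e => h.C.j_notMem (mem_sup_right e)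

theorem index_D : (normalizer (s.D : Set G)).index * (4 * s.k) = Nat.card G := by
  rw [← card_normD h.Φ h.p h.q h.j_notMem, index_mul_card]

theorem index_H : (normalizer ((s.V ⊔ s.H : Subgroup G) : Set G)).index * (24 * s.h) =
    Nat.card G := by
  rw [← card_normH h.Φ h.p, index_mul_card]

theorem card_D : Nat.card s.D = 2 * s.k := by rw [s.card_D, s.f_eq_one_iff.2 h.Φ, mul_one]

theorem ncard_D : ((s.D : Set G) \ zpowers s.t).ncard + 2 = 2 * s.k := by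
  rw [← h.card_D, ← (tor_D h.Φ h.p h.q).ncard_add, Nat.card_zpowers, s.ord_t]

theorem ncard_H : (((s.V ⊔ s.H : Subgroup G) : Set G) \ s.V).ncard + 4 = 4 * s.h := by
  rw [← card_VH, ← (tor_H h.Φ).ncard_add, s.card_V]

end RT

namespace RM

variable {M : Subgroup G} (hM : RM s M)
include hM

omit [Finite G] in
theorem elt {y : G} (hy : y ∈ M) : (orderOf y).Coprime (6 * s.h * s.k) :=
  hM.cop.coprime_dvd_left (M.orderOf_dvd_natCard hy)

omit [Finite G] in
theorem odd : Odd (Nat.card M) :=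
  Nat.coprime_two_right.1 (hM.cop.coprime_dvd_right ⟨3 * s.h * s.k, by ring⟩)

theorem tor : Tor M ⊥ := ⟨bot_le, fun _ hg => ⟨eq_one_of_odd (hM.odd.of_dvd_nat
  (M.orderOf_dvd_natCard hg)), fun e => by rw [mem_bot.1 e, mul_one]⟩, hM.sc⟩

theorem ncard : ((M : Set G) \ (⊥ : Subgroup G)).ncard + 1 = Nat.card M := by
  rw [← hM.tor.ncard_add, card_bot]

theorem card_le {M' : Subgroup G} (hM' : RM s M') (h : ¬ (Nat.card M).Coprime (Nat.card M')) :
    ∃ c : G, ∀ g ∈ M', c * g * c⁻¹ ∈ M := by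
  obtain ⟨r, hr, h1, h2⟩ := Nat.Prime.not_coprime_iff_dvd.1 h
  haveI := Fact.mk hr
  obtain ⟨y, hy⟩ := exists_prime_orderOf_dvd_card' r h2
  obtain ⟨c, hc⟩ := Ch.BSW.SC.exists_conj_mem hM.sc hr h1 ((orderOf_coe y).trans hy)
  refine ⟨c, fun g hg => hM.sc.mem_of_comm hc (fun e => hr.ne_one ?_) ?_⟩
  · rw [← hy, ← orderOf_coe, conj_eq_one_iff.1 e, orderOf_one]
  · rw [conj_mul, conj_mul, hM'.sc.comm y.2 hg]

variable (h : RT s P)
include h

theorem dvd : Nat.card M ∣ 2 * s.k * s.q + 1 :=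
  (h.cop hM.cop).dvd_of_dvd_mul_left (h.card_G ▸ card_subgroup_dvd_card M)

theorem seven_le : 7 ≤ Nat.card M := by
  obtain ⟨r, hr, h1⟩ := Nat.exists_prime_and_dvd (mt card_eq_one.1 hM.ne)
  exact (h.seven_le hr (h1.trans (hM.dvd h))).trans (Nat.le_of_dvd Nat.card_pos h1)

theorem card_ne : Nat.card (normalizer (M : Set G)) ≠ Nat.card M * 2 := fun e => by
  have d : ∀ {W V W' V' : Subgroup G}, Tor W V → Tor W' V' → Nat.card W ≠ Nat.card W' →
      Disjoint (gen W V) (gen W' V') := fun h1 h2 h3 => Set.disjoint_left.2 fun z hz hz' =>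
    h3 ((h1.card_cent hz).symm.trans (h2.card_cent hz'))
  have hD := tor_D h.Φ h.p h.q
  have hH := tor_H h.Φ
  have h0 := Nat.odd_iff.1 hM.odd
  have h1 := s.rc_q h.p
  have h2 := s.rc_h h.p
  have h3 := Set.ncard_le_card (gen M ⊥ ∪ (gen s.D (zpowers s.t) ∪ gen (s.V ⊔ s.H) s.V))
  rw [Set.ncard_union_eq (Set.disjoint_union_right.2 ⟨d hM.tor hD (by rw [h.card_D]; omega),
    d hM.tor hH (by rw [card_VH]; omega)⟩), Set.ncard_union_eq (d hD hH (by
      rw [h.card_D, card_VH]; omega)), hM.tor.ncard_gen, hD.ncard_gen, hH.ncard_gen] at h3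
  have h4 := (normalizer (M : Set G)).index_mul_card
  rw [e] at h4
  have := Nat.card_pos (α := G)
  have := h.le_q
  have e1 := Nat.mul_le_mul_left (normalizer (M : Set G)).index (show 3 * (Nat.card M * 2) ≤
    7 * ((M : Set G) \ (⊥ : Subgroup G)).ncard by have := hM.ncard; have := hM.seven_le h; omega)
  have e2 := Nat.mul_le_mul_left (normalizer (s.D : Set G)).index (show 6 * (4 * s.k) ≤
    13 * ((s.D : Set G) \ zpowers s.t).ncard by have := h.ncard_D; omega)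
  have e3 := Nat.mul_le_mul_left (normalizer ((s.V ⊔ s.H : Subgroup G) : Set G)).index
    (show 24 * s.h ≤ 7 * (((s.V ⊔ s.H : Subgroup G) : Set G) \ s.V).ncard by
      have := h.ncard_H; omega)
  rw [mul_left_comm, h4] at e1
  rw [mul_left_comm, h.index_D] at e2
  rw [h.index_H] at e3
  linarith

theorem exists_ae : ∃ a e : ℕ, Nat.card M = 1 + a * e ∧ (6 ≤ e ∧ Even e) ∧
    (normalizer (M : Set G)).index * (Nat.card M * e) = Nat.card G := by
  have h1 := (M.subgroupOf (normalizer (M : Set G))).card_mul_index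
  rw [Nat.card_congr (subgroupOfEquivOfLe le_normalizer).toEquiv] at h1
  obtain ⟨a, ha⟩ := Ch.TI.index_dvd_card_sub_one (M.subgroupOf (normalizer (M : Set G)))
    fun k hk h1 g hg => (hM.sc k hk fun e => h1 (Subtype.ext e)).le
      (mem_centralizer_singleton_iff.2 (congrArg Subtype.val (mem_centralizer_singleton_iff.1 hg)))
  rw [Nat.card_congr (subgroupOfEquivOfLe le_normalizer).toEquiv] at ha
  obtain ⟨z, hz, hz'⟩ := hM.inv
  have h2 := ((Nat.prime_two.dvd_mul).1 (h1 ▸ hz ▸ Subgroup.orderOf_dvd_natCard _ hz')).resolve_left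
    hM.odd.not_two_dvd_nat
  have h3 : ¬ 4 ∣ (M.subgroupOf (normalizer (M : Set G))).index := fun e => by
    obtain ⟨g, hg⟩ := s.exists_conj_V_le (h1 ▸ e.mul_left _)
    obtain ⟨⟨y, hy⟩, hy1⟩ := ne_bot_iff_exists_ne_one.1 hM.ne
    have k := fun {a : G} ha hn => (h.inverts (a := a) (fun _ => hM.elt) ha hn).1
    have e1 := k (s.conj g).ord_tw (hg (mul_mem (s.conj g).t_mem_V (s.conj g).w_mem_V)) y hy
    rw [Setup.conj_conj, k (s.conj g).data.ord_w (hg (s.conj g).w_mem_V) y hy, ← conj_inv,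
      k (s.conj g).ord_t (hg (s.conj g).t_mem_V) y hy, inv_inv, eq_inv_iff_mul_eq_one] at e1
    exact hy1 (Subtype.ext (mem_bot.1 ((hM.tor.sq y hy).1 e1)))
  have h4 : (M.subgroupOf (normalizer (M : Set G))).index ≠ 2 := fun e =>
    hM.card_ne h (by rw [← h1, e])
  have := Nat.card_pos (α := M)
  refine ⟨a, _, by rw [mul_comm, ← ha]; omega, ⟨?_, even_iff_two_dvd.2 h2⟩, by
    rw [h1, index_mul_card]⟩
  have := index_ne_zero_of_finite (H := M.subgroupOf (normalizer (M : Set G)))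
  omega

theorem cong {e d : ℕ} (he : (normalizer (M : Set G)).index * (Nat.card M * e) = Nat.card G)
    (hd : 2 * s.k * s.q + 1 = Nat.card M * d) : (Nat.card M : ℤ) ∣ (s.q + 1) * e - 3 * d := by
  obtain ⟨c, hc⟩ := Ch.BSW.SC.card_dvd_index_sub_one hM.sc
  have h1 : (normalizer (M : Set G)).index = 1 + Nat.card M * c := by
    have := index_ne_zero_of_finite (H := normalizer (M : Set G))
    omega
  rw [h.card_G, hd, h1, mul_left_comm, mul_left_comm _ (Nat.card M),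
    mul_right_inj' Nat.card_pos.ne'] at he
  have h2 := s.rc_q h.p
  have h3 := s.rc_h h.p
  zify at he hd h2 h3
  refine ⟨d * d * ((s.q : ℤ) ^ 4 + 2 * s.q ^ 3 - 3 * s.q - 3) - (s.q + 1) * c * e, ?_⟩
  have h4 : (8 * s.h * s.k : ℤ) = (s.q + 1) * (s.q - 1) := by rw [← h3, h2]; ring
  have h5 : (Nat.card M : ℤ) * d = s.q ^ 2 - s.q + 1 := by rw [← hd, h2]; ring
  linear_combination (s.q + 1) * he + (s.q + 1) * s.q ^ 3 * d * h4 -
    d * ((s.q : ℤ) ^ 4 + 2 * s.q ^ 3 - 3 * s.q - 3) * h5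

end RM

namespace RT

variable (h : RT s P)
include h

theorem ncard_zero : (cl {y : G × G | y.1 = s.t ∧ orderOf y.2 = 2 ∧ Commute y.2 s.t}).ncard ≤
    s.I * (2 * s.k * s.q + 1) := by
  refine (ncard_cl_le s.C fun c hc y hy => ?_).trans (Nat.mul_le_mul_left _ ?_)
  · have h1 : c * s.t * c⁻¹ = s.t := mul_inv_eq_iff_eq_mul.2 (mem_centralizer_singleton_iff.1 hc)
    exact ⟨hy.1 ▸ h1, (orderOf_conj c _).trans hy.2.1, h1 ▸ hy.2.2.conj c⟩
  have h1 : {a : G | a ∈ s.L ∧ orderOf a = 2}.ncard = s.k * s.q := s.data.card_invol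
  refine (Set.ncard_le_ncard_of_injOn (t := insert s.t ({a | a ∈ s.L ∧ orderOf a = 2} ∪
    (s.t * ·) '' {a | a ∈ s.L ∧ orderOf a = 2})) Prod.snd (fun y hy => ?_)
    fun y hy z hz e => Prod.ext (hy.1.trans hz.1.symm) e).trans ((Set.ncard_insert_le _ _).trans
      (Nat.succ_le_succ ((Set.ncard_union_le _ _).trans ?_)))
  · by_cases e : y.2 = s.t
    · exact .inl e
    rcases s.invol_cases hy.2.1 hy.2.2 with h2 | h2 | h2
    · exact .inl h2
    · exact .inr (.inl ⟨h2, hy.2.1⟩)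
    refine .inr (.inr ⟨_, ⟨h2, orderOf_eq_prime ?_ fun e' => e ?_⟩, ?_⟩)
    · rw [sq, s.t_mul_sq hy.2.2, Inv.mul_self_of_two hy.2.1]
    · rw [← inv_eq_of_mul_eq_one_right e', inv_eq_of_mul_eq_one_right s.t_mul_t]
    · simp only [← mul_assoc, s.t_mul_t, one_mul]
  · rw [Set.ncard_image_of_injective _ (mul_right_injective _), h1]
    linarith

theorem ncard_three : (cl {a : G | a ∈ P ⊔ ⊥ ⊔ s.D ∧ orderOf a = 2}.offDiag).ncard ≤
    (4 * s.h * (2 * s.k * s.q + 1)) * (s.q ^ 2 * (s.q ^ 2 - 1)) := by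
  refine (ncard_cl_le (P ⊔ ⊥ ⊔ s.D) fun c hc y hy => ?_).trans (Nat.mul_le_mul (le_of_eq ?_) ?_)
  · exact ⟨⟨mul_mem (mul_mem hc hy.1.1) (inv_mem hc), (orderOf_conj c _).trans hy.1.2⟩,
      ⟨mul_mem (mul_mem hc hy.2.1.1) (inv_mem hc), (orderOf_conj c _).trans hy.2.1.2⟩,
      by simpa using hy.2.2⟩
  · have h1 := (P ⊔ ⊥ ⊔ s.D).index_mul_card
    rw [h.card_G, h.card_B] at h1
    have := s.data.k_pos
    have := h.q
    exact Nat.eq_of_mul_eq_mul_right (by positivity) (h1.trans (by ring))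
  have h1 : {a : G | a ∈ P ⊔ ⊥ ⊔ s.D ∧ orderOf a = 2}.ncard ≤ s.q ^ 2 := by
    have h2 := (s.U.subgroupOf P).index_mul_card
    rw [Nat.card_congr (subgroupOfEquivOfLe h.C.U_le).toEquiv, h.C.card_P, s.data.card_U,
      pow_succ, mul_left_inj' (by have := h.q; omega)] at h2
    rw [← h2, index, ← Set.ncard_univ]
    refine le_trans (Set.ncard_le_ncard fun a ha => ?_) (Set.ncard_image_le
      (f := fun z : P ⧸ s.U.subgroupOf P => (z.out : G) * s.t * (z.out : G)⁻¹))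
    obtain ⟨o, ho, rfl⟩ := h.C.toReeB.exists_conj_t' ha.1 ha.2
    obtain ⟨u, hu⟩ := QuotientGroup.mk_out_eq_mul (s.U.subgroupOf P) ⟨o, by simpa using ho⟩
    refine ⟨_, trivial, (congrArg (fun z : P => (z : G) * s.t * (z : G)⁻¹) hu).trans ?_⟩
    simp only [coe_mul]
    rw [Setup.conj_conj, (show Commute ((u : P) : G) s.t from s.t_comm _ (s.data.U_le u.2)).eq,
      mul_inv_cancel_right]
  classical
  generalize {a : G | a ∈ P ⊔ ⊥ ⊔ s.D ∧ orderOf a = 2} = X at h1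
  lift X to Finset G using Set.toFinite X
  rw [← Finset.coe_offDiag, Set.ncard_coe_finset, Finset.offDiag_card, ← Nat.mul_sub_one]
  rw [Set.ncard_coe_finset] at h1
  exact Nat.mul_le_mul h1 (Nat.sub_le_sub_right h1 1)

theorem cover {a b : G} (ha : orderOf a = 2) (hb : orderOf b = 2) :
    (a, b) ∈ cl {y : G × G | y.1 = s.t ∧ orderOf y.2 = 2 ∧ Commute y.2 s.t} ∨
      (a, b) ∈ cl {a : G | a ∈ P ⊔ ⊥ ⊔ s.D ∧ orderOf a = 2}.offDiag ∨
      (a, b) ∈ cl (prs s.D (zpowers s.t)) ∨ (a, b) ∈ cl (prs (s.V ⊔ s.H) s.V) ∨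
      ∃ M, RM s M ∧ a * b ∈ M ∧ a * b * (a * b) ≠ 1 := by
  have ha2 := Inv.mul_self_of_two ha
  have hb2 := Inv.mul_self_of_two hb
  have hi : a * (a * b) * a⁻¹ = (a * b)⁻¹ := by
    rw [← mul_assoc a, ha2, one_mul, mul_inv_rev, inv_eq_of_mul_eq_one_right hb2]
  by_cases h1 : a * b * (a * b) = 1
  · obtain ⟨c, hc⟩ := isConj_iff.1 (s.one_class a ha).symm
    refine .inl ⟨c, hc, (orderOf_conj c b).trans hb, hc ▸ Commute.conj ?_ c⟩
    rw [inv_eq_of_mul_eq_one_right h1, mul_inv_eq_iff_eq_mul, mul_assoc, mul_right_inj] at hi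
    exact hi.symm
  obtain ⟨r, hr, h2, h3⟩ : ∃ r : ℕ, r.Prime ∧ r ∣ orderOf (a * b) ∧ r ≠ 2 := by
    by_contra! h2
    obtain ⟨n, hn⟩ : ∃ n, orderOf (a * b) = 2 ^ n :=
      ⟨_, Nat.eq_prime_pow_of_unique_prime_dvd (orderOf_pos _).ne' (h2 _ · ·)⟩
    have h3 := s.not_four_dvd_orderOf (a * b)
    rw [hn] at h3
    exact h1 ((sq _).symm.trans (orderOf_dvd_iff_pow_eq_one.1 (hn ▸ pow_dvd_pow 2 (m := n) (n := 1)
      (by by_contra! h4; exact h3 (pow_dvd_pow 2 h4)))))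
  obtain ⟨n, rfl⟩ := exists_pow_orderOf_eq h2
  have hc : Commute (a * b) ((a * b) ^ n) := Commute.self_pow _ n
  replace hi : a * (a * b) ^ n * a⁻¹ = ((a * b) ^ n)⁻¹ := by rw [← conj_pow, hi, inv_pow]
  generalize (a * b) ^ n = y at hr h2 h3 hc hi
  have hy : y * y ≠ 1 := fun e => h3 ((Nat.prime_dvd_prime_iff_eq hr Nat.prime_two).1
    (orderOf_dvd_of_pow_eq_one ((sq y).trans e)))
  have hy1 : y ≠ 1 := fun e => hy (by rw [e, mul_one])
  by_cases h4 : (orderOf y).Coprime (6 * s.h * s.k)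
  · exact .inr (.inr (.inr (.inr ⟨_, h.rm h4 hy1 ha hi, mem_centralizer_singleton_iff.2 hc, h1⟩)))
  rw [hr.coprime_iff_not_dvd, not_not, show 6 = 2 * 3 from rfl] at h4
  simp only [hr.dvd_mul, Nat.prime_dvd_prime_iff_eq hr, Nat.prime_two, Nat.prime_three] at h4
  rcases h4 with ((e | e) | e) | e
  · exact absurd e h3
  · obtain ⟨c, hc'⟩ := h.into_P e
    have h5 : c * y * c⁻¹ ≠ 1 := by simpa using hy1
    have h6 : c * a * c⁻¹ ∈ P ⊔ ⊥ ⊔ s.D := h.C.TI_P _ hc' h5 _ (by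
      rw [conj_inv, conj_mul, conj_mul, hi, ← conj_inv]; exact inv_mem hc')
    have h7 := h.C.toReeB.cent_P_le hc' h5 (mem_centralizer_singleton_iff.2 (hc.conj c))
    rw [← conj_mul, mul_mem_cancel_left h6] at h7
    exact .inr (.inl ⟨c, ⟨h6, (orderOf_conj c a).trans ha⟩, ⟨h7, (orderOf_conj c b).trans hb⟩,
      fun e => h1 (by rw [show a = b by simpa using e, hb2, mul_one])⟩)
  · obtain ⟨c, hc'⟩ := h.into_H hr e
    exact .inr (.inr (.inr (.inl ((tor_H h.Φ).mem_cl ha2 hb2 h1 hc hy (mem_sup_right hc')))))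
  · obtain ⟨c, hc'⟩ := h.into_T hr e
    exact .inr (.inr (.inl ((tor_D h.Φ h.p h.q).mem_cl ha2 hb2 h1 hc hy (s.rc_T_D hc'))))

end RT

end Cfsg.Agent.AGrp.RR
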