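import Cfsg.Agent.JTW.Main
import Cfsg.Agent.Chev.ReeUtil
import Cfsg.Agent.GT.HallTools

/-! Tori in groups of Ree type, and counting pairs of involutions. -/

set_option autoImplicit false

namespace Cfsg.Agent.AGrp.RR

open Subgroup JTW

variable {G : Type*} [Group G] [Finite G]

/-- The conjugates of a set of pairs. -/
def cl (X : Set (G × G)) : Set (G × G) := {y | ∃ c : G, (c * y.1 * c⁻¹, c * y.2 * c⁻¹) ∈ X}

theorem ncard_cl_le (A : Subgroup G) {X : Set (G × G)}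
    (h : ∀ c ∈ A, ∀ y ∈ X, (c * y.1 * c⁻¹, c * y.2 * c⁻¹) ∈ X) :
    (cl X).ncard ≤ A.index * X.ncard := by
  rw [index, ← Set.ncard_univ, ← Set.ncard_prod]
  refine le_trans (Set.ncard_le_ncard ?_) (Set.ncard_image_le (f := fun z : (G ⧸ A) × G × G =>
    (z.1.out * z.2.1 * z.1.out⁻¹, z.1.out * z.2.2 * z.1.out⁻¹)))
  rintro y ⟨c, hc⟩
  obtain ⟨a, ha⟩ := QuotientGroup.mk_out_eq_mul A c⁻¹
  refine ⟨(QuotientGroup.mk c⁻¹, _), ⟨trivial, h _ (inv_mem a.2) _ hc⟩, ?_⟩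
  simp only [ha]
  ext <;> simp only <;> group

/-- `W` is the centraliser of each of its elements outside `V = Ω₁(O₂(W))`. -/
structure Tor (W V : Subgroup G) : Prop where
  le : V ≤ W
  sq : ∀ g ∈ W, g * g = 1 ↔ g ∈ V
  cent : ∀ g ∈ W, g ∉ V → centralizer {g} = W

/-- Pairs whose product is a generic element of `W` inverted by the first entry. -/
def prs (W V : Subgroup G) : Set (G × G) :=
  {y | y.1 * y.2 ∈ (W : Set G) \ V ∧ y.1 * (y.1 * y.2) * y.1⁻¹ = (y.1 * y.2)⁻¹}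

/-- Conjugates of generic elements of `W`. -/
def gen (W V : Subgroup G) : Set G := {z | ∃ c : G, c * z * c⁻¹ ∈ (W : Set G) \ V}

namespace Tor

variable {W V : Subgroup G} (h : Tor W V)
include h

theorem ncard_add : ((W : Set G) \ V).ncard + Nat.card V = Nat.card W :=
  Set.ncard_diff_add_ncard_of_subset h.le

omit [Finite G] in
theorem conj_mem {c g : G} (hc : c ∈ normalizer (W : Set G)) (hg : g ∈ (W : Set G) \ V) :
    c * g * c⁻¹ ∈ (W : Set G) \ V := by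
  have h1 := (mem_normalizer_iff.1 hc g).1 hg.1
  refine ⟨h1, fun h2 => hg.2 ((h.sq g hg.1).1 ?_)⟩
  simpa using (h.sq _ h1).2 h2

omit [Finite G] in
theorem mem {g c : G} (hg : g ∈ W) (h1 : g * g ≠ 1) (hc : Commute c g) : c ∈ W :=
  (h.cent g hg (mt (h.sq g hg).2 h1)).le (mem_centralizer_singleton_iff.2 hc)

theorem mem_normalizer {c g : G} (hg : g ∈ (W : Set G) \ V) (hc : c * g * c⁻¹ ∈ (W : Set G) \ V) :
    c ∈ normalizer (W : Set G) :=
  Chev.ReeUtil.mem_normalizer_of_conj_mem fun z hz => (h.cent _ hc.1 hc.2).le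
    (mem_centralizer_singleton_iff.2 (by
      rw [conj_mul, conj_mul, mem_centralizer_singleton_iff.1 ((h.cent g hg.1 hg.2).ge hz)]))

theorem ncard_gen : (gen W V).ncard = ((W : Set G) \ V).ncard * (normalizer (W : Set G)).index :=
  Chev.ReeUtil.card_conj_of_ti _ _ (fun _ hc _ hg => h.conj_mem hc hg)
    fun _ _ hg hc => h.mem_normalizer hg hc

omit [Finite G] in
theorem card_cent {z : G} (hz : z ∈ gen W V) : Nat.card (centralizer {z}) = Nat.card W := by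
  obtain ⟨c, hc⟩ := hz
  rw [← h.cent _ hc.1 hc.2]
  refine Nat.card_congr ((MulAut.conj c).toEquiv.subtypeEquiv fun x => ?_)
  simp [mem_centralizer_singleton_iff]

theorem ncard_prs : (cl (prs W V)).ncard ≤
    (normalizer (W : Set G)).index * (((W : Set G) \ V).ncard * Nat.card W) := by
  classical
  refine (ncard_cl_le _ fun c hc y hy => ?_).trans (Nat.mul_le_mul_left _ ?_)
  · exact ⟨conj_mul (b := c) ▸ h.conj_mem hc hy.1, by simp only [conj_mul, conj_inv, hy.2]⟩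
  let i : G → G := fun g => if h : ∃ a, a * g * a⁻¹ = g⁻¹ then h.choose else 1
  rw [show Nat.card W = (W : Set G).ncard from rfl, ← Set.ncard_prod]
  refine Set.ncard_le_ncard_of_injOn (fun y => (y.1 * y.2, (i (y.1 * y.2))⁻¹ * y.1))
    (fun y hy => ⟨hy.1, (h.cent _ hy.1.1 hy.1.2).le (mem_centralizer_singleton_iff.2 ?_)⟩)
    fun y _ z _ e => ?_
  · have h1 : i (y.1 * y.2) * (y.1 * y.2) * (i (y.1 * y.2))⁻¹ = (y.1 * y.2)⁻¹ := by
      simp only [i, dif_pos (⟨_, hy.2⟩ : ∃ a, a * (y.1 * y.2) * a⁻¹ = (y.1 * y.2)⁻¹)]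
      exact Exists.choose_spec (p := fun a => a * (y.1 * y.2) * a⁻¹ = (y.1 * y.2)⁻¹) _
    have h2 := hy.2
    simp only
    generalize i (y.1 * y.2) = a at h1
    generalize y.1 * y.2 = g at h1 h2
    calc a⁻¹ * y.1 * g = a⁻¹ * (y.1 * g * y.1⁻¹) * y.1 := by group
      _ = _ := by rw [h2, ← h1]; group
  · obtain ⟨e1, e2⟩ := Prod.ext_iff.1 e
    simp only at e1 e2
    rw [e1, mul_right_inj] at e2
    exact Prod.ext e2 (by rwa [e2, mul_right_inj] at e1)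

omit [Finite G] in
theorem mem_cl {a b y c : G} (ha : a * a = 1) (hb : b * b = 1) (h1 : a * b * (a * b) ≠ 1)
    (hy : Commute (a * b) y) (hy1 : y * y ≠ 1) (hc : c * y * c⁻¹ ∈ W) : (a, b) ∈ cl (prs W V) := by
  have h2 : c * (a * b) * c⁻¹ ∈ W := h.mem hc (by simpa using hy1) (hy.conj c)
  refine ⟨c, ⟨conj_mul (b := c) ▸ h2, fun h3 => h1 ?_⟩, ?_⟩
  · rw [conj_mul] at h3
    simpa using (h.sq _ h2).2 h3
  · simp only [conj_mul, conj_inv]
    rw [← mul_assoc a, ha, one_mul, mul_inv_rev, inv_eq_of_mul_eq_one_right hb]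

end Tor

variable {s : Setup G} (hΦ : s.Φ = ⊥) (hp : s.p = 3) (hq : 3 < s.q)

omit [Finite G] in
theorem eq_one_of_odd {x : G} (ho : Odd (orderOf x)) (h : x * x = 1) : x = 1 :=
  Setup.MainAux.eq_one_of_odd ho (n := 1) (by rw [← h, pow_one, sq])

include hΦ in
theorem mem_D {d : G} : d ∈ s.D ↔ ∃ τ ∈ s.T, d = τ ∨ d = s.t * τ := by
  simp [s.mem_D, hΦ]

include hΦ hp hq in
theorem tor_D : Tor s.D (zpowers s.t) := by
  have h1 : ∀ g ∈ s.D, ∃ τ ∈ s.T, g * g = τ * τ ∧ (τ = 1 → g ∈ zpowers s.t) ∧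
      ∀ c ∈ s.D, Commute c g := fun g hg => by
    have ht : ∀ τ ∈ s.T, Commute τ s.t := fun τ hτ => s.t_comm τ (s.data.T_le hτ)
    have h2 : ∀ τ ∈ s.T, ∀ c ∈ s.D, Commute c τ := fun τ hτ c hc => by
      obtain ⟨σ, hσ, rfl | rfl⟩ := (mem_D hΦ).1 hc
      exacts [s.data.T_comm hσ hτ, (ht τ hτ).symm.mul_left (s.data.T_comm hσ hτ)]
    obtain ⟨τ, hτ, rfl | rfl⟩ := (mem_D hΦ).1 hg
    · exact ⟨g, hτ, rfl, fun e => e ▸ one_mem _, h2 g hτ⟩
    · exact ⟨τ, hτ, s.t_mul_sq (ht τ hτ), fun e => by simp [e],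
        fun c hc => (s.rc_D_t hc).mul_right (h2 τ hτ c hc)⟩
  refine ⟨zpowers_le.2 s.rc_t_D, fun g hg => ⟨fun e => ?_, fun e => ?_⟩, fun g hg hg' => ?_⟩
  · obtain ⟨τ, hτ, e1, e2, -⟩ := h1 g hg
    exact e2 (eq_one_of_odd (s.data.odd_T hτ) (e1 ▸ e))
  · rcases Aux.mem_zpowers_cases s.ord_t e with rfl | rfl
    exacts [mul_one 1, s.t_mul_t]
  obtain ⟨τ, hτ, e1, e2, e3⟩ := h1 g hg
  refine le_antisymm (fun c hc => ?_) fun c hc => mem_centralizer_singleton_iff.2 (e3 c hc)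
  have h2 : Commute c (τ * τ) := e1 ▸ Commute.mul_right (mem_centralizer_singleton_iff.1 hc)
    (mem_centralizer_singleton_iff.1 hc)
  have h3 : τ * τ ≠ 1 := fun e => hg' (e2 (eq_one_of_odd (s.data.odd_T hτ) e))
  obtain ⟨σ, hσ, φ, hφ, -, e⟩ :=
    s.cent_T_odd (mul_mem hτ hτ) h3 (s.cent_T hp hq (mul_mem hτ hτ) h3 h2) h2
  exact s.mem_D.2 ⟨σ, hσ, φ, hφ, e⟩

include hΦ hp hq in
theorem card_normD (hj : s.j ∉ s.D) : Nat.card (normalizer (s.D : Set G)) = 4 * s.k := by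
  obtain ⟨τ, hτ⟩ : ∃ τ : s.T, τ ≠ 1 := by
    haveI := Finite.one_lt_card_iff_nontrivial.1
      (show 1 < Nat.card s.T by have := s.rc_q hp; rw [s.data.card_T]; omega)
    exact exists_ne 1
  rw [CharH.card_two_mul le_normalizer (Chev.ReeUtil.mem_normalizer_of_conj_mem
    fun _ => s.rc_j_D) hj fun g hg => ?_, s.card_D, s.f_eq_one_iff.2 hΦ]
  · ring
  have h1 := (mem_normalizer_iff.1 hg _).1 s.rc_t_D
  have h2 : Commute g s.t := mul_inv_eq_iff_eq_mul.1 ((Aux.mem_zpowers_cases s.ord_t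
    (((tor_D hΦ hp hq).sq _ h1).1 (by rw [conj_mul, s.t_mul_t]; simp))).resolve_left
      (by simpa using Inv.ne_one_of_two s.ord_t))
  exact s.norm_T_C τ.2 (fun e => hτ (Subtype.ext e)) h2 (s.rc_D_L
    ((mem_normalizer_iff.1 hg _).1 (s.rc_T_D τ.2)) (s.conj_mem_L h2 (s.data.T_le τ.2)))

theorem H_V {x a : G} (hx : x ∈ s.H) (ha : a ∈ s.V) : Commute x a :=
  s.V_comm (s.t_comm x (s.data.H_le hx)) (s.data.w_H x hx).symm ha

theorem H_normV : s.H ≤ normalizer (s.V : Set G) :=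
  GT.le_normalizer_of_le_centralizer fun _ hx _ ha => (H_V hx ha).symm

include hΦ in
theorem tor_H : Tor (s.V ⊔ s.H) s.V := by
  have h1 : ∀ g ∈ s.V ⊔ s.H, ∃ x ∈ s.H, g * g = x * x ∧ (x = 1 → g ∈ s.V) ∧
      ∀ c ∈ s.V ⊔ s.H, Commute c g := fun g hg => by
    obtain ⟨a, ha, x, hx, rfl⟩ := (RC.mem_sup_iff H_normV).1 hg
    refine ⟨x, hx, ?_, fun e => by simpa [e], fun c hc => ?_⟩
    · rw [mul_assoc, ← mul_assoc x, (H_V hx ha).eq, ← mul_assoc, ← mul_assoc,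
        s.S_sq (s.V_le_S ha), one_mul]
    · obtain ⟨b, hb, y, hy, rfl⟩ := (RC.mem_sup_iff H_normV).1 hc
      exact ((s.S_comm (s.V_le_S hb) (s.V_le_S ha)).mul_right (H_V hx hb).symm).mul_left
        ((H_V hy ha).mul_right (s.data.H_comm hy hx))
  refine ⟨le_sup_left, fun g hg => ⟨fun e => ?_, fun e => s.S_sq (s.V_le_S e)⟩, fun g hg hg' => ?_⟩
  · obtain ⟨τ, hτ, e1, e2, -⟩ := h1 g hg
    exact e2 (eq_one_of_odd (s.data.odd_H hτ) (e1 ▸ e))
  obtain ⟨τ, hτ, e1, e2, e3⟩ := h1 g hg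
  refine le_antisymm (fun c hc => ?_) fun c hc => mem_centralizer_singleton_iff.2 (e3 c hc)
  exact s.cent_H_of_bot hΦ (mul_mem hτ hτ)
    (fun e => hg' (e2 (eq_one_of_odd (s.data.odd_H hτ) e))) (e1 ▸ Commute.mul_right
      (mem_centralizer_singleton_iff.1 hc) (mem_centralizer_singleton_iff.1 hc))

theorem card_VH : Nat.card (s.V ⊔ s.H : Subgroup G) = 4 * s.h := by
  rw [GT.HT.card_sup_of_disjoint H_normV (disjoint_iff_inf_le.2 fun a ha =>
    s.eq_one_of_S_H (s.V_le_S ha.1) ha.2), s.card_V, s.data.card_H]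

include hΦ hp in
theorem card_normH : Nat.card (normalizer ((s.V ⊔ s.H : Subgroup G) : Set G)) = 24 * s.h := by
  have h1 : normalizer ((s.V ⊔ s.H : Subgroup G) : Set G) = normalizer (s.V : Set G) :=
    le_antisymm (fun g hg => Chev.ReeUtil.mem_normalizer_of_conj_mem fun a ha =>
      ((tor_H hΦ).sq _ ((mem_normalizer_iff.1 hg _).1 (mem_sup_left ha))).1
        (by rw [conj_mul, s.S_sq (s.V_le_S ha)]; simp))
      ((le_inf le_rfl s.normalizer_V_le).trans (normalizer_inf_normalizer_le_normalizer_sup _ _))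
  have h2 : Nat.card (s.H ⊔ s.S : Subgroup G) = 8 * s.h := by
    rw [GT.HT.card_sup_of_disjoint s.S_normH (disjoint_iff_inf_le.2 fun a ha =>
      s.eq_one_of_S_H ha.2 ha.1), s.card_S, s.data.card_H, mul_comm]
  obtain ⟨y, u, hy⟩ := s.exists_isY
  rw [h1]
  refine le_antisymm ?_ (Nat.le_of_dvd Nat.card_pos ?_)
  · refine (Set.ncard_le_ncard (t := (fun z : Fin 3 × G => (y ^ z.1.1)⁻¹ * z.2) ''
      (Set.univ ×ˢ (s.H ⊔ s.S : Subgroup G))) fun g hg => ?_).trans 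
        ((Set.ncard_image_le (Set.toFinite _)).trans ?_)
    · obtain ⟨i, h3, h4⟩ := s.norm_V hy hg
      obtain ⟨a, ha, x, hx, φ, hφ, e⟩ := s.cent_V h3 h4
      rw [hΦ, mem_bot] at hφ
      refine ⟨(⟨i % 3, Nat.mod_lt _ three_pos⟩, y ^ i * g), ⟨trivial, ?_⟩, ?_⟩
      · rw [e, hφ, mul_one]
        exact mul_mem (mem_sup_right ha) (mem_sup_left hx)
      · simp only [← hy.ord_y, pow_mod_orderOf, inv_mul_cancel_left]
    · rw [Set.ncard_prod, Set.ncard_univ, Nat.card_fin, show Set.ncard _ = _ from h2]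
      omega
  · rw [show 24 * s.h = 3 * (8 * s.h) by ring]
    refine Nat.Coprime.mul_dvd_of_dvd_of_dvd ((Nat.Coprime.mul_right (by norm_num)
      ((Nat.Prime.coprime_iff_not_dvd Nat.prime_three).2 (s.rc_not_three_h hp))))
      (hy.ord_y ▸ Subgroup.orderOf_dvd_natCard _ hy.normV) (h2 ▸ card_dvd_of_le (sup_le H_normV
        (GT.le_normalizer_of_le_centralizer fun _ hx _ ha => s.S_comm (s.V_le_S ha) hx)))

end Cfsg.Agent.AGrp.RR
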